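import Cfsg.Agent.Lib.RankOneP.Perfect
import Cfsg.Agent.Lib.GW.Assembly

/-!
# S3099 from the Gorenstein-Walter case with fixed points
-/

set_option autoImplicit false

namespace Cfsg.Agent.RankOneP

open Cfsg
open scoped MatrixGroups

universe u

theorem gwPerfect_of_partTwo (h : GW.PartTwo.{u}) : GWPerfect.{u} := fun _ _ _ _ S _ hn hS =>
  GW.known_of_perfect h S hn hS

/-- S3099, given the case with fixed points. -/
theorem perfect_rank_one_of_partTwo (h : GW.PartTwo.{u}) {X : Type u} [Group X] [Finite X]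
    (hP : Group.IsPerfect X) (h1 : PRankLE 2 1 X) (h2 : Even (Nat.card X)) :
    (∃ (F : Type) (_ : Field F) (_ : Fintype F), Odd (Fintype.card F) ∧ 3 < Fintype.card F ∧
        Nonempty (X ⧸ oddCore X ≃* SL(2, F))) ∨
      IsNonsplitDoubleCover (X ⧸ oddCore X) ↥(alternatingGroup (Fin 7)) :=
  perfect_rank_one (gwPerfect_of_partTwo h) hP h1 h2

end Cfsg.Agent.RankOneP
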