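import Cfsg.Agent.Lib.RankOneP.Main
import Cfsg.Agent.Lib.Invol.RankOneComponent
import Cfsg.Agent.Lib.PSL2.Basic
import Cfsg.Agent.S2117
import Cfsg.Agent.S2118
import Cfsg.Agent.Lib.Schur.PerfectCover
import Cfsg.Prelude.Def_KGroupFacts

/-!
# Perfect groups of 2-rank one (S3099, given the Gorenstein-Walter theorem for perfect groups)

* `sl_two_cover_unique`: a perfect double cover of `PSL(2, q)`, `q > 3` odd, is `SL(2, q)`
* `sylow_quaternion_of_perfect`: the Sylow 2-subgroups are quaternion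
* `perfect_rank_one`: modulo the odd core the group is `SL(2, q)` or a non-split double cover of `A7`
-/

set_option autoImplicit false
set_option linter.style.haveILetI false

namespace Cfsg.Agent.RankOneP

open Cfsg Subgroup Matrix
open scoped commutatorElement MatrixGroups

universe u

theorem sl_two_cover_unique_zero {X : Type} [Group X] [Finite X] [Group.IsPerfect X]
    {F : Type} [Field F] [Fintype F] (hodd : Odd (Fintype.card F)) (h3 : 3 < Fintype.card F)
    (τ : X →* PSL(2, F)) (hτ : Function.Surjective τ) (hz : τ.ker ≤ center X)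
    (h2 : Nat.card τ.ker = 2) : Nonempty (X ≃* SL(2, F)) := by
  classical
  have h2F : (2 : F) ≠ 0 := PSL2.odd_card_iff.1 hodd
  have hperf : _root_.commutator SL(2, F) = ⊤ := PSL2.sl_commutator_eq_top (by omega)
  let π : SL(2, F) →* PSL(2, F) := PSL2.mk
  let Δ : Subgroup (X × SL(2, F)) :=
    (τ.comp (MonoidHom.fst X SL(2, F))).eqLocus (π.comp (MonoidHom.snd X SL(2, F)))
  let ρ : ↥Δ →* SL(2, F) := (MonoidHom.snd X SL(2, F)).comp Δ.subtype
  have hρ : Function.Surjective ρ := fun s => by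
    obtain ⟨g, hg⟩ := hτ (π s)
    exact ⟨⟨(g, s), hg⟩, rfl⟩
  have hρk : ∀ x ∈ ρ.ker, (x : X × SL(2, F)).1 ∈ τ.ker := fun x hx => by
    have h0 : τ (x : X × SL(2, F)).1 = π (x : X × SL(2, F)).2 := x.2
    rw [MonoidHom.mem_ker, h0, show (x : X × SL(2, F)).2 = 1 from hx, map_one]
  have hρz : ρ.ker ≤ center ↥Δ := fun x hx => mem_center_iff.2 fun y => Subtype.ext (Prod.ext
    (mem_center_iff.1 (hz (hρk x hx)) _) (by
      show (y : X × SL(2, F)).2 * (x : X × SL(2, F)).2 = (x : X × SL(2, F)).2 * (y : X × SL(2, F)).2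
      rw [show (x : X × SL(2, F)).2 = 1 from hx, one_mul, mul_one]))
  set D : Subgroup ↥Δ := _root_.commutator ↥Δ with hD
  let σ : ↥D →* SL(2, F) := ρ.comp D.subtype
  have hσ : Function.Surjective σ := fun s => by
    have hs : s ∈ D.map ρ := by
      rw [hD, _root_.commutator_def, map_commutator, map_top_of_surjective ρ hρ, ← _root_.commutator_def, hperf]
      exact mem_top s
    obtain ⟨d, hd, hde⟩ := hs
    exact ⟨⟨d, hd⟩, hde⟩
  -- `D` is perfect
  have hDperf : ∀ x : ↥D, x ∈ _root_.commutator ↥D := by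
    intro x
    have hdec : ∀ a : ↥Δ, ∃ d : ↥D, ρ a = ρ d := fun a => by
      obtain ⟨d, hd⟩ := hσ (ρ a)
      exact ⟨d, hd.symm⟩
    have hle : D ≤ (_root_.commutator ↥D).map D.subtype := by
      refine le_trans (le_of_eq (show D = ⁅(⊤ : Subgroup ↥Δ), (⊤ : Subgroup ↥Δ)⁆ from hD.trans (_root_.commutator_def _))) ?_
      refine commutator_le.2 ?_
      rintro a - b -
      obtain ⟨a', ha'⟩ := hdec a
      obtain ⟨b', hb'⟩ := hdec b
      refine ⟨⁅a', b'⁆, Subgroup.commutator_mem_commutator (mem_top a') (mem_top b'), ?_⟩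
      exact (map_commutatorElement D.subtype a' b').trans (Schur.commutator_congr hρz ha' hb').symm
    obtain ⟨y, hy, hyx⟩ := hle x.2
    rwa [← D.subtype_injective hyx]
  have hσs : Cfsg.IsStemExtension σ := ⟨hσ, fun x hx => mem_center_iff.2 fun y => Subtype.ext
    (mem_center_iff.1 (hρz (show (x : ↥Δ) ∈ ρ.ker from hx)) (y : ↥Δ)), fun x _ => hDperf x⟩
  -- the kernel has order dividing two and a divisor of three
  have hk2 : Nat.card σ.ker ∣ 2 := by
    let g : ↥σ.ker →* ↥τ.ker :=
      ((MonoidHom.fst X SL(2, F)).comp (Δ.subtype.comp (D.subtype.comp σ.ker.subtype))).codRestrict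
        τ.ker fun x => hρk _ x.2
    refine dvd_trans ?_ h2.dvd
    refine card_dvd_of_injective g fun a b hab => Subtype.ext (Subtype.ext (Subtype.ext (Prod.ext
      (congrArg Subtype.val hab) ?_)))
    exact (show ρ (a : ↥D) = 1 from a.2).trans (show ρ (b : ↥D) = 1 from b.2).symm
  have hk3 : Nat.card σ.ker ∣ 3 := by
    by_cases h9 : Fintype.card F = 9
    · obtain ⟨-, hcov⟩ := Cfsg.Agent.S2118.result h9
      obtain ⟨φ, hφ⟩ := hcov _ σ hσs
      simpa using card_dvd_of_surjective φ hφ
    · have h4 : Fintype.card F ≠ 4 := fun h => by rw [h] at hodd; exact absurd hodd (by decide)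
      obtain ⟨-, hcov⟩ := Cfsg.Agent.S2117.result h4 h9
      obtain ⟨φ, hφ⟩ := hcov _ σ hσs
      exact ((card_dvd_of_surjective φ hφ).trans (by simp)).trans (one_dvd 3)
  have hinj : Function.Injective σ := by
    rw [← MonoidHom.ker_eq_bot_iff]
    exact Subgroup.eq_bot_of_card_eq _ (Nat.eq_one_of_dvd_coprimes (by norm_num) hk2 hk3)
  let e : ↥D ≃* SL(2, F) := MulEquiv.ofBijective σ ⟨hinj, hσ⟩
  let f : SL(2, F) →* X :=
    ((MonoidHom.fst X SL(2, F)).comp (Δ.subtype.comp D.subtype)).comp e.symm.toMonoidHom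
  have hfτ : ∀ s, τ (f s) = π s := fun s =>
    ((e.symm s : ↥D) : ↥Δ).2.trans (congrArg π (e.apply_symm_apply s))
  have hfs : Function.Surjective f := by
    have hle : _root_.commutator X ≤ f.range := by
      rw [_root_.commutator_def, commutator_le]
      rintro a - b -
      obtain ⟨s, hs⟩ := PSL2.mk_surjective (τ a)
      obtain ⟨t, ht⟩ := PSL2.mk_surjective (τ b)
      exact ⟨⁅s, t⁆, (map_commutatorElement f s t).trans
        (Schur.commutator_congr hz ((hfτ s).trans hs) ((hfτ t).trans ht))⟩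
    rw [Group.IsPerfect.commutator_eq_top] at hle
    exact fun x => hle (mem_top x)
  have hcard : Nat.card X = Nat.card SL(2, F) := by
    have h1 := card_mul_index τ.ker
    rw [index_ker, MonoidHom.range_eq_top.2 hτ, card_top, h2, PSL2.two_mul_card_PSL h2F] at h1
    rw [PSL2.card_SL]
    exact h1.symm
  exact ⟨(MulEquiv.ofBijective f ((Nat.bijective_iff_surjective_and_card f).2 ⟨hfs, hcard.symm⟩)).symm⟩

theorem isPerfect_of_surjective {A : Type*} [Group A] {B : Type*} [Group B] [Group.IsPerfect A] (f : A →* B)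
    (hf : Function.Surjective f) : Group.IsPerfect B := ⟨top_le_iff.1 (by
  rw [← map_top_of_surjective f hf, ← Group.IsPerfect.commutator_eq_top (G := A)]
  rw [_root_.commutator_def, commutator_def, map_commutator]
  exact commutator_mono le_top le_top)⟩

theorem sl_two_cover_unique {X : Type u} [Group X] [Finite X] [Group.IsPerfect X]
    {F : Type} [Field F] [Fintype F] (hodd : Odd (Fintype.card F)) (h3 : 3 < Fintype.card F)
    (h2 : Nat.card (center X) = 2) (e : X ⧸ center X ≃* PSL(2, F)) : Nonempty (X ≃* SL(2, F)) := by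
  let g : Shrink.{0} X ≃* X := Shrink.mulEquiv
  haveI : Finite (Shrink.{0} X) := Finite.of_equiv X g.symm.toEquiv
  haveI : Group.IsPerfect (Shrink.{0} X) := isPerfect_of_surjective g.symm.toMonoidHom g.symm.surjective
  let τ : Shrink.{0} X →* PSL(2, F) :=
    (e.toMonoidHom.comp (QuotientGroup.mk' (center X))).comp g.toMonoidHom
  have hτ : Function.Surjective τ :=
    (e.surjective.comp (QuotientGroup.mk'_surjective _)).comp g.surjective
  have hker : ∀ x, x ∈ τ.ker ↔ g x ∈ center X := fun x => by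
    rw [MonoidHom.mem_ker]
    show e (QuotientGroup.mk' _ (g x)) = 1 ↔ _
    rw [e.map_eq_one_iff, QuotientGroup.mk'_apply, QuotientGroup.eq_one_iff]
  obtain ⟨f⟩ := sl_two_cover_unique_zero hodd h3 τ hτ
    (fun x hx => mem_center_iff.2 fun y => g.injective (by
      rw [map_mul, map_mul, mem_center_iff.1 ((hker x).1 hx) (g y)]))
    (by
      refine Eq.trans ?_ h2
      exact Nat.card_congr
        { toFun := fun x => ⟨g x, (hker _).1 x.2⟩
          invFun := fun x => ⟨g.symm x, (hker _).2 (by simp)⟩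
          left_inv := fun x => by simp
          right_inv := fun x => by simp })
  exact ⟨g.symm.trans f⟩

variable {X : Type u} [Group X] [Finite X]

/-- A Sylow 2-subgroup of a perfect group of even order and 2-rank one is quaternion. -/
theorem sylow_quaternion_of_perfect [Group.IsPerfect X] (h1 : PRankLE 2 1 X) (h2 : Even (Nat.card X)) :
    ∃ (S : Sylow 2 X) (n : ℕ), 1 ≤ n ∧ Nonempty ((S : Subgroup X) ≃* QuaternionGroup (2 ^ n)) := by
  haveI : Fact (Nat.Prime 2) := ⟨Nat.prime_two⟩
  obtain ⟨S⟩ : Nonempty (Sylow 2 X) := inferInstance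
  have hfour := Invol.no_kleinFour_of_rankLE_one h1
  have huniq : ∀ H K : Subgroup ↥(S : Subgroup X), Nat.card H = 2 → Nat.card K = 2 → H = K := by
    intro H K hH hK
    have hHK : ∀ M : Subgroup ↥(S : Subgroup X), Nat.card M = 2 → ∃ x : ↥(S : Subgroup X),
        orderOf (x : X) = 2 ∧ zpowers x = M := fun M hM => by
      obtain ⟨x, hx⟩ := exists_prime_orderOf_dvd_card' (G := ↥M) 2 (by rw [hM])
      refine ⟨x, by rw [orderOf_coe, orderOf_coe]; exact hx, eq_of_le_of_card_ge (zpowers_le.mpr x.2) ?_⟩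
      rw [hM, Nat.card_zpowers, orderOf_coe, hx]
    obtain ⟨x, hx, rfl⟩ := hHK H hH
    obtain ⟨y, hy, rfl⟩ := hHK K hK
    have hne : (⊤ : Subgroup ↥(S : Subgroup X)) ≠ ⊥ := fun h => by
      have h' : x ∈ (⊥ : Subgroup ↥(S : Subgroup X)) := h ▸ mem_top x
      rw [mem_bot] at h'
      rw [h', OneMemClass.coe_one, orderOf_one] at hx
      omega
    obtain ⟨c, -, hcc, hc⟩ := PGroup.exists_orderOf_eq_mem_center S.2 (⊤ : Subgroup ↥(S : Subgroup X)) hne
    have key : ∀ w : ↥(S : Subgroup X), orderOf (w : X) = 2 → w = c := fun w hw => Subtype.ext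
      (ZStar.eq_of_commute_of_no_kleinFour hfour hw (by rw [orderOf_coe]; exact hc)
        (congrArg Subtype.val (mem_center_iff.mp hcc w)))
    rw [key x hx, key y hy]
  rcases PGroup.cyclic_or_quaternion_of_unique S.2 huniq with hcyc | ⟨-, n, hn, -, he⟩
  · exfalso
    have hp : (2 : ℕ) = (Nat.card X).minFac := ((Nat.minFac_eq_two_iff _).mpr h2.two_dvd).symm
    have hN := IsCyclic.normalizer_le_centralizer (G := X) (P := S) hp.symm hcyc
    have htop : (MonoidHom.transferSylow S hN).ker = ⊤ := by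
      rw [eq_top_iff, ← Group.IsPerfect.commutator_eq_top (G := X), _root_.commutator_def, commutator_le]
      intro a _ b _
      rw [MonoidHom.mem_ker, map_commutatorElement, commutatorElement_eq_one_iff_mul_comm]
      exact hcyc.commutative.is_comm.comm _ _
    have h2' := MonoidHom.not_dvd_card_ker_transferSylow S hN
    rw [htop, card_top] at h2'
    exact h2' h2.two_dvd
  · exact ⟨S, n, hn, he⟩

/-- Core-free case. -/
theorem coreFree_rank_one (hGW : GWPerfect.{u}) [Group.IsPerfect X] (hO : oddCore X = ⊥)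
    (S : Sylow 2 X) {n : ℕ} (hn : 1 ≤ n) (e : (S : Subgroup X) ≃* QuaternionGroup (2 ^ n)) :
    (∃ (F : Type) (_ : Field F) (_ : Fintype F), Odd (Fintype.card F) ∧ 3 < Fintype.card F ∧
        Nonempty (X ≃* SL(2, F))) ∨
      IsNonsplitDoubleCover X ↥(alternatingGroup (Fin 7)) := by
  obtain ⟨hZ, -, hOY, TY, hTY⟩ := quaternion_quotient S n hn e hO
  haveI : Group.IsPerfect (X ⧸ center X) :=
    isPerfect_of_surjective (QuotientGroup.mk' _) (QuotientGroup.mk'_surjective _)
  let eO : (X ⧸ center X) ⧸ oddCore (X ⧸ center X) ≃* X ⧸ center X :=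
    (QuotientGroup.quotientMulEquivOfEq hOY).trans QuotientGroup.quotientBot
  rcases hGW (X ⧸ center X) TY (2 ^ n) (Nat.le_self_pow (by omega) 2) hTY with
    ⟨F, iF, iF', hodd, h3, ⟨f⟩⟩ | ⟨⟨f⟩⟩
  · exact Or.inl ⟨F, iF, iF', hodd, h3, sl_two_cover_unique hodd h3 hZ (eO.symm.trans f)⟩
  · refine Or.inr ⟨hZ, ⟨eO.symm.trans f⟩, fun L hL => ?_⟩
    have hidx : L.index = 2 := by rw [hL.index_eq_card, hZ]
    haveI : L.Normal := normal_of_index_eq_two hidx
    haveI : Fact (Nat.Prime 2) := ⟨Nat.prime_two⟩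
    haveI : Group.IsPerfect (X ⧸ L) :=
      isPerfect_of_surjective (QuotientGroup.mk' L) (QuotientGroup.mk'_surjective L)
    have hc : Nat.card (X ⧸ L) = 2 := hidx
    haveI := isCyclic_of_prime_card (p := 2) hc
    have htop := Group.IsPerfect.commutator_eq_top (G := X ⧸ L)
    have hbot : _root_.commutator (X ⧸ L) = ⊥ := by
      rw [_root_.commutator_def, eq_bot_iff, commutator_le]
      intro a _ b _
      rw [mem_bot, commutatorElement_eq_one_iff_mul_comm]
      exact IsCyclic.commutative.is_comm.comm a b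
    have h12 : Nat.card (⊤ : Subgroup (X ⧸ L)) = 1 := by rw [← htop, hbot, card_bot]
    rw [card_top, hc] at h12
    omega

/-- **S3099**, given the Gorenstein-Walter theorem. -/
theorem perfect_rank_one (hGW : GWPerfect.{u}) (hP : Group.IsPerfect X) (h1 : PRankLE 2 1 X)
    (h2 : Even (Nat.card X)) :
    (∃ (F : Type) (_ : Field F) (_ : Fintype F), Odd (Fintype.card F) ∧ 3 < Fintype.card F ∧
        Nonempty (X ⧸ oddCore X ≃* SL(2, F))) ∨
      IsNonsplitDoubleCover (X ⧸ oddCore X) ↥(alternatingGroup (Fin 7)) := by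
  haveI := hP
  haveI : Fact (Nat.Prime 2) := ⟨Nat.prime_two⟩
  obtain ⟨S, n, hn, ⟨e⟩⟩ := sylow_quaternion_of_perfect h1 h2
  haveI : Group.IsPerfect (X ⧸ oddCore X) :=
    isPerfect_of_surjective (QuotientGroup.mk' _) (QuotientGroup.mk'_surjective _)
  have hinj : Function.Injective ((QuotientGroup.mk' (oddCore X)).comp (S : Subgroup X).subtype) := by
    rw [← MonoidHom.ker_eq_bot_iff, eq_bot_iff]
    intro x hx
    rw [MonoidHom.mem_ker, MonoidHom.comp_apply, QuotientGroup.mk'_apply, QuotientGroup.eq_one_iff] at hx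
    have := (disjoint_iff.1 (PCore.disjoint_of_isPGroup_of_coprime S.2 PCore.coprime_card_pPrimeCore)).le
      ⟨x.2, hx⟩
    exact mem_bot.2 (Subtype.ext (mem_bot.1 this))
  let S' : Sylow 2 (X ⧸ oddCore X) := Sylow.mapSurjective (QuotientGroup.mk'_surjective (oddCore X)) S
  let eS : (S : Subgroup X) ≃* (S' : Subgroup (X ⧸ oddCore X)) :=
    (MonoidHom.ofInjective hinj).trans (MulEquiv.subgroupCongr (by
      rw [MonoidHom.range_comp, range_subtype]; rfl))
  exact coreFree_rank_one hGW PCore.pPrimeCore_quotient_self_eq_bot S' hn (eS.symm.trans e)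

end Cfsg.Agent.RankOneP
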